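import Groth.Agent.H4DR.TorAmp.Fibrewise
import Groth.Agent.H26Dual2.RelPerfect
import Groth.Agent.H16Derived.TorTest.RelTildeAmp
import Groth.Agent.H8Props.PseudoCoh.BaseChange
import Groth.Agent.H4DR.PCoh.ExactF
import Mathlib.RingTheory.RingHom.Surjective
import Mathlib.RingTheory.RegularLocalRing.Polynomial
import Mathlib.RingTheory.LocalRing.ResidueField.Fiber

/-!
# Tor amplitude over the base at a point from the fibre, for algebras of finite presentation
-/

set_option autoImplicit false
set_option linter.style.haveILetI false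
set_option linter.unusedSectionVars false
set_option backward.isDefEq.respectTransparency false

universe u

open CategoryTheory CategoryTheory.Limits MonoidalCategory TensorProduct
open Groth.Agent.H4DR Groth.Agent.H4DR.TorAmp Groth.Agent.H4DR.TorAmp.Fibrewise Groth.Agent.H16Derived

attribute [local instance] HasDerivedCategory.standard

namespace Groth.Agent.H02CA.RelFib

open Groth.Agent.H4DR.KFlatMod (bi)

/-- Polynomial fibres: regular of dimension at most the number of variables. -/
theorem regular_fibre {R : Type u} [CommRing R] (d : ℕ) (q' : Ideal (MvPolynomial (Fin d) R)) [q'.IsPrime]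
    (p : Ideal R) [p.IsPrime] [q'.LiesOver p] :
    letI := Localization.AtPrime.algebraOfLiesOver p q'
    IsRegularLocalRing (Localization.AtPrime q' ⧸ (IsLocalRing.maximalIdeal (Localization.AtPrime p)).map
        (algebraMap (Localization.AtPrime p) (Localization.AtPrime q'))) ∧
      ∃ d' : ℕ, d' ≤ d ∧ ringKrullDim (Localization.AtPrime q' ⧸ (IsLocalRing.maximalIdeal (Localization.AtPrime p)).map
        (algebraMap (Localization.AtPrime p) (Localization.AtPrime q'))) = d' := by
  letI := Localization.AtPrime.algebraOfLiesOver p q'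
  let P := MvPolynomial (Fin d) R
  let K := p.ResidueField
  let Qp := PrimeSpectrum.preimageEquivFiber R P ⟨p, inferInstance⟩
    ⟨⟨q', inferInstance⟩, PrimeSpectrum.ext (Ideal.over_def q' p).symm⟩
  have hQ : Qp.asIdeal.comap Algebra.TensorProduct.includeRight = q' :=
    congr($((PrimeSpectrum.preimageEquivFiber R P ⟨p, inferInstance⟩).left_inv
      ⟨⟨q', inferInstance⟩, PrimeSpectrum.ext (Ideal.over_def q' p).symm⟩).1.asIdeal)
  let e : p.Fiber P ≃+* MvPolynomial (Fin d) K := (MvPolynomial.algebraTensorAlgEquiv (σ := Fin d) R K).toRingEquiv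
  haveI : IsRegularRing (p.Fiber P) := IsRegularRing.of_ringEquiv (R := MvPolynomial (Fin d) K) e.symm
  have hdim : ringKrullDim (p.Fiber P) = d := by
    rw [ringKrullDim_eq_of_ringEquiv e, MvPolynomial.ringKrullDim_of_isNoetherianRing,
      ringKrullDim_eq_zero_of_field, Nat.card_eq_fintype_card, Fintype.card_fin, zero_add]
  have key : ∀ (r : Ideal P) [r.IsPrime] [r.LiesOver p], r = Qp.asIdeal.comap Algebra.TensorProduct.includeRight →
      letI := Localization.AtPrime.algebraOfLiesOver p r
      Nonempty (Localization.AtPrime Qp.asIdeal ≃+* Localization.AtPrime r ⧸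
        (IsLocalRing.maximalIdeal (Localization.AtPrime p)).map
          (algebraMap (Localization.AtPrime p) (Localization.AtPrime r))) := by
    intro r _ _ hr
    subst hr
    letI := Localization.AtPrime.algebraOfLiesOver p (Qp.asIdeal.comap Algebra.TensorProduct.includeRight)
    refine ⟨(Ideal.Fiber.localizationAlgEquivQuotient p Qp.asIdeal).toRingEquiv.trans (Ideal.quotEquivOfEq ?_)⟩
    rw [← Localization.AtPrime.map_eq_maximalIdeal, Ideal.map_map, ← IsScalarTower.algebraMap_eq]
  obtain ⟨f⟩ := key q' hQ.symm
  haveI : IsRegularLocalRing (Localization.AtPrime Qp.asIdeal) := isRegularRing_iff.mp inferInstance Qp.asIdeal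
  refine ⟨IsRegularLocalRing.of_ringEquiv (R := Localization.AtPrime Qp.asIdeal) f, ?_⟩
  rw [← ringKrullDim_eq_of_ringEquiv f,
    IsLocalization.AtPrime.ringKrullDim_eq_height Qp.asIdeal (Localization.AtPrime Qp.asIdeal)]
  have hle : (Qp.asIdeal.height : WithBot ℕ∞) ≤ (d : ℕ) := hdim ▸ Ideal.height_le_ringKrullDim_of_ne_top Qp.2.ne_top
  have hle' : Qp.asIdeal.height ≤ (d : ℕ∞) := by exact_mod_cast hle
  obtain ⟨d', hd'⟩ := ENat.ne_top_iff_exists.mp (ne_top_of_le_ne_top (ENat.coe_ne_top d) hle')
  refine ⟨d', ?_, by rw [← hd']; rfl⟩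
  rw [← hd'] at hle'
  exact_mod_cast hle'

/-- Extension of scalars of finite free modules. -/
theorem finiteFree_extend {A B : Type u} [CommRing A] [CommRing B] (φ : A →+* B) {M : ModuleCat.{u} A}
    (h : Module.Finite A M ∧ Module.Free A M) :
    Module.Finite B ((ModuleCat.extendScalars.{u, u, u} φ).obj M) ∧
      Module.Free B ((ModuleCat.extendScalars.{u, u, u} φ).obj M) := by
  letI := φ.toAlgebra
  haveI := h.1
  haveI := h.2
  exact ⟨inferInstanceAs (Module.Finite B (B ⊗[A] M)), inferInstanceAs (Module.Free B (B ⊗[A] M))⟩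

/-- Localisations of a flat algebra at a prime over `p` are flat over `R_p`. -/
theorem flat_atPrime {R P : Type u} [CommRing R] [CommRing P] [Algebra R P] [Module.Flat R P] (p : Ideal R) [p.IsPrime]
    (r : Ideal P) [r.IsPrime] [r.LiesOver p] :
    letI := Localization.AtPrime.algebraOfLiesOver p r
    Module.Flat R (Localization.AtPrime r) ∧ Module.Flat (Localization.AtPrime p) (Localization.AtPrime r) := by
  letI := Localization.AtPrime.algebraOfLiesOver p r
  haveI : Module.Flat R (Localization.AtPrime r) := Module.Flat.trans R P _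
  exact ⟨inferInstance,
    (Module.flat_iff_of_isLocalization (Localization.AtPrime p) p.primeCompl _).mpr inferInstance⟩

/-- Derived fibres: tensor with the residue field and base change to it. -/
theorem subsingleton_lbase_residue {A : Type u} [CommRing A] [IsLocalRing A]
    [DRing.HasLBaseChange (IsLocalRing.residue A)]
    [DRing.HasLTensor A (ModuleCat.of A (IsLocalRing.ResidueField A))]
    {X : Dual.D A} {W : DRing.Cx A} (hW : KFlat.IsKFlat (bi A) W) (e : DRing.toD W ≅ X) (i : ℤ)
    (h : Subsingleton (Dual.HD A ((DRing.LTensor A (ModuleCat.of A (IsLocalRing.ResidueField A))).obj X) i)) :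
    Subsingleton (Dual.HD (IsLocalRing.ResidueField A) ((DRing.LBaseChange (IsLocalRing.residue A)).obj X) i) := by
  have hex : ((tens (ModuleCat.of A (IsLocalRing.ResidueField A))).obj W).ExactAt i :=
    (subsingleton_HD_toD_iff _ i).1 (PCoh.hEquiv i ((ltensorObj _ W hW).symm ≪≫
      (DRing.LTensor A _).mapIso e)).injective.subsingleton
  let κ := ModuleCat.of (IsLocalRing.ResidueField A) (IsLocalRing.ResidueField A)
  let eQ : (ModuleCat.restrictScalars.{u} (IsLocalRing.residue A)).obj κ ≅
      ModuleCat.of A (IsLocalRing.ResidueField A) :=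
    @LinearEquiv.toModuleIso A _
      ((ModuleCat.restrictScalars.{u} (IsLocalRing.residue A)).obj κ) (ModuleCat.of A (IsLocalRing.ResidueField A))
      inferInstance inferInstance
      ((ModuleCat.restrictScalars.{u} (IsLocalRing.residue A)).obj κ).isModule
      (ModuleCat.of A (IsLocalRing.ResidueField A)).isModule
      { toFun := fun x => x
        invFun := fun x => x
        map_add' := fun _ _ => rfl
        map_smul' := fun r x => (Algebra.smul_def r (show IsLocalRing.ResidueField A from x)).symm
        left_inv := fun _ => rfl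
        right_inv := fun _ => rfl }
  have hex' : (((ModuleCat.extendScalars.{u, u, u} (IsLocalRing.residue A)).mapHomologicalComplex
      (ComplexShape.up ℤ)).obj W).ExactAt i :=
    (exactAt_ext_iff_tens (IsLocalRing.residue A) W i).2 (hex.of_iso
      ((NatIso.mapHomologicalComplex ((curriedTensor (ModuleCat.{u} A)).flip.mapIso eQ) (ComplexShape.up ℤ)).app W).symm)
  haveI := (subsingleton_HD_toD_iff _ i).2 hex'
  exact (PCoh.hEquiv i (((DRing.LBaseChange _).mapIso e).symm ≪≫ lbaseObj _ W hW)).injective.subsingleton

section Abstract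

variable {R Rp B C : Type u} [CommRing R] [CommRing Rp] [CommRing B] [CommRing C] [IsLocalRing Rp] [IsLocalRing B]
  [Algebra Rp B] [IsLocalHom (algebraMap Rp B)] [Algebra R B] [Module.Flat Rp B] [Module.Flat R B]

theorem ta_of_fibre_abstract (θ : B →+* C) (ρ : Rp →+* C) (hρ : ρ = θ.comp (algebraMap Rp B)) (hρflat : ρ.Flat)
    (σ : R →+* C) (hσ : σ = θ.comp (algebraMap R B)) (d' : ℕ)
    [IsRegularLocalRing (B ⧸ (IsLocalRing.maximalIdeal Rp).map (algebraMap Rp B))]
    (hdim : ringKrullDim (B ⧸ (IsLocalRing.maximalIdeal Rp).map (algebraMap Rp B)) = d')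
    [DRing.HasLTensor Rp (ModuleCat.of Rp (IsLocalRing.ResidueField Rp))]
    (a b c : ℤ) (E : DRing.Cx C) (hEb : DRing.VanishesAbove E c) (hEF : DRing.TermwiseFiniteFree E)
    {K : Dual.D C} (e : DRing.toD E ≅ K) (hK' : DRing.IsPseudoCoherent' B ((DRing.restrictD θ).obj K))
    (hfib : ∀ i : ℤ, i < a ∨ b < i → Subsingleton (Dual.HD Rp
      ((DRing.LTensor Rp (ModuleCat.of Rp (IsLocalRing.ResidueField Rp))).obj ((DRing.restrictD ρ).obj K)) i)) :
    DRing.HasTorAmplitudeIn R (a - d') b ((DRing.restrictD σ).obj K) := by
  haveI := hasLBaseChange (IsLocalRing.residue Rp)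
  let K' := (DRing.restrictD θ).obj K
  let GB := ModuleCat.restrictScalars.{u} θ
  let Gp := ModuleCat.restrictScalars.{u} (algebraMap Rp B)
  let Gρ := ModuleCat.restrictScalars.{u} ρ
  let EB := (DTen.resCx θ).obj E
  let eB : DRing.toD EB ≅ K' := (GB.mapDerivedCategoryFactors.app E).symm ≪≫ GB.mapDerivedCategory.mapIso e
  let Wp := (DTen.resCx ρ).obj E
  have hflat : DRing.TermwiseFlat E := fun j => haveI := (hEF j).2; inferInstance
  have hWp : KFlat.IsKFlat (bi Rp) Wp := by
    letI : Algebra Rp C := ρ.toAlgebra
    haveI : Module.Flat Rp C := hρflat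
    exact isKFlat_of_flat (c := c) (fun j hj => Gρ.map_isZero (hEb j hj)) (flat_restrict (A := Rp) hflat)
  let ep : DRing.toD Wp ≅ (DRing.restrictD (algebraMap Rp B)).obj K' :=
    DerivedCategory.Q.mapIso (TorTest.resCompCx (algebraMap Rp B) θ ρ hρ E) ≪≫
      (Gp.mapDerivedCategoryFactors.app EB).symm ≪≫ Gp.mapDerivedCategory.mapIso eB
  obtain ⟨-, hta⟩ := isPerfect_of_regular_fibre d' hdim a b K' hK' fun i hi => by
    refine subsingleton_lbase_residue hWp ep i ?_
    haveI := hfib i hi
    exact (PCoh.hEquiv i ((DRing.LTensor Rp _).mapIso (ep.symm ≪≫ (Gρ.mapDerivedCategoryFactors.app E).symm ≪≫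
      Gρ.mapDerivedCategory.mapIso e))).injective.subsingleton
  have hB : DRing.HasTorAmplitudeIn R (-((0 : ℕ) : ℤ)) 0 (Dual.inD R B) := by
    simpa using TorAmp.ta_of_flat (ModuleCat.of R B)
  have h := ta_restrict hB hta
  let GR := ModuleCat.restrictScalars.{u} (algebraMap R B)
  let GA := ModuleCat.restrictScalars.{u} σ
  refine ta_mono (by push_cast; omega) le_rfl (ta_of_iso ?_ h)
  exact GR.mapDerivedCategory.mapIso eB.symm ≪≫ GR.mapDerivedCategoryFactors.app EB ≪≫
    (DerivedCategory.Q.mapIso (TorTest.resCompCx (algebraMap R B) θ σ hσ E)).symm ≪≫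
    (GA.mapDerivedCategoryFactors.app E).symm ≪≫ GA.mapDerivedCategory.mapIso e

end Abstract

section Main

variable {R A : Type u} [CommRing R] [CommRing A] [Algebra R A] [Module.Flat R A] [Algebra.FinitePresentation R A]
  {d : ℕ} (ψ : MvPolynomial (Fin d) R →ₐ[R] A) (hψ : Function.Surjective ψ) (q : Ideal A) [q.IsPrime]

/-- The localised presentation. -/
noncomputable abbrev θ : Localization.AtPrime (q.comap ψ.toRingHom) →+* Localization.AtPrime q :=
  Localization.localRingHom (q.comap ψ.toRingHom) q ψ.toRingHom rfl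

include hψ in
/-- The local ring is pseudo-coherent over the local ring of affine space. -/
theorem fpInf_localization :
    letI := (θ ψ q).toAlgebra
    H8Props.PseudoCoh.FPInf (Localization.AtPrime (q.comap ψ.toRingHom)) (Localization.AtPrime q) := by
  let P := MvPolynomial (Fin d) R
  let B := Localization.AtPrime (q.comap ψ.toRingHom)
  let Aq := Localization.AtPrime q
  letI : Algebra P A := ψ.toRingHom.toAlgebra
  letI : Algebra B Aq := (θ ψ q).toAlgebra
  haveI : IsScalarTower P A Aq := inferInstance
  haveI : IsScalarTower P B Aq := .of_algebraMap_eq fun x =>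
    (Localization.localRingHom_to_map _ q ψ.toRingHom rfl x).symm
  haveI : IsScalarTower R P A := .of_algebraMap_eq fun x => (ψ.commutes x).symm
  haveI : Module.FinitePresentation P A :=
    Module.finitePresentation_of_surjective (Algebra.linearMap P A) hψ
      (by
        have h := Algebra.FinitePresentation.ker_fG_of_surjective ψ hψ
        exact h)
  have h1 : H8Props.PseudoCoh.FPInf P A := fun k => H26Dual2.fpk_of_relFlat (R := R) k A
  let S := (q.comap ψ.toRingHom).primeCompl
  have hS : Algebra.algebraMapSubmonoid A S = q.primeCompl := by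
    ext x
    constructor
    · rintro ⟨y, hy, rfl⟩
      exact hy
    · intro hx
      obtain ⟨y, rfl⟩ := hψ x
      exact ⟨y, hx, rfl⟩
  haveI : IsLocalization (Algebra.algebraMapSubmonoid A S) Aq := by rw [hS]; infer_instance
  haveI : IsLocalizedModule S (IsScalarTower.toAlgHom P A Aq).toLinearMap :=
    isLocalizedModule_iff_isLocalization.mpr inferInstance
  let e : B ⊗[P] A ≃ₗ[B] Aq := (IsLocalizedModule.isBaseChange S B (IsScalarTower.toAlgHom P A Aq).toLinearMap).equiv
  haveI : Module.Flat P B := IsLocalization.flat B S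
  exact fun k => (h1.baseChange B k).of_equiv e

include hψ in
/-- Restriction to the local ring of affine space preserves pseudo-coherence. -/
theorem pc_restrict {K : Dual.D (Localization.AtPrime q)} (hK : DRing.IsPseudoCoherent' _ K) :
    DRing.IsPseudoCoherent' _ ((DRing.restrictD (θ ψ q)).obj K) := by
  let B := Localization.AtPrime (q.comap ψ.toRingHom)
  let Aq := Localization.AtPrime q
  letI : Algebra B Aq := (θ ψ q).toAlgebra
  refine PCoh.pc'_of_forall fun m => PCoh.pc_map (ModuleCat.restrictScalars.{u} (θ ψ q)) (fun n j => ?_)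
    (PCoh.pc_of_pc' hK m)
  have h : DRing.IsPseudoCoherentModule' B (Fin n → Aq) :=
    H8Props.PseudoCoh.isPseudoCoherentModule'_of_fpInf fun k =>
      H8Props.PseudoCoh.fpk_pi_algebra (fpInf_localization ψ hψ q k) n
  have h' := PCoh.pc_of_pc' h j
  refine PCoh.pc_of_iso ((DerivedCategory.singleFunctor (ModuleCat.{u} B) 0).mapIso
    (@LinearEquiv.toModuleIso B _ (ModuleCat.of B (Fin n → Aq))
      ((ModuleCat.restrictScalars.{u} (θ ψ q)).obj (ModuleCat.of Aq (Fin n → Aq))) inferInstance inferInstance
      (ModuleCat.of B (Fin n → Aq)).isModule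
      ((ModuleCat.restrictScalars.{u} (θ ψ q)).obj (ModuleCat.of Aq (Fin n → Aq))).isModule
      { toFun := fun x => x
        invFun := fun x => x
        map_add' := fun _ _ => rfl
        map_smul' := fun r x => funext fun i => Algebra.smul_def r _
        left_inv := fun _ => rfl
        right_inv := fun _ => rfl })) h'

theorem θ_algebraMap (x : R) :
    θ ψ q (algebraMap R (Localization.AtPrime (q.comap ψ.toRingHom)) x) = algebraMap R (Localization.AtPrime q) x := by
  rw [IsScalarTower.algebraMap_apply R (MvPolynomial (Fin d) R) (Localization.AtPrime (q.comap ψ.toRingHom)),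
    IsScalarTower.algebraMap_apply R A (Localization.AtPrime q)]
  exact (Localization.localRingHom_to_map _ q ψ.toRingHom rfl _).trans (congrArg _ (ψ.commutes x))

theorem localRingHom_eq (p : Ideal R) [p.IsPrime] (hpq : p = q.comap (algebraMap R A))
    [(q.comap ψ.toRingHom).LiesOver p] :
    letI := Localization.AtPrime.algebraOfLiesOver p (q.comap ψ.toRingHom)
    Localization.localRingHom p q (algebraMap R A) hpq =
      (θ ψ q).comp (algebraMap (Localization.AtPrime p) (Localization.AtPrime (q.comap ψ.toRingHom))) := by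
  letI := Localization.AtPrime.algebraOfLiesOver p (q.comap ψ.toRingHom)
  refine IsLocalization.ringHom_ext p.primeCompl (RingHom.ext fun x => ?_)
  rw [RingHom.comp_apply, RingHom.comp_apply, RingHom.comp_apply, Localization.localRingHom_to_map,
    ← IsScalarTower.algebraMap_apply R (Localization.AtPrime p) (Localization.AtPrime (q.comap ψ.toRingHom)),
    θ_algebraMap, ← IsScalarTower.algebraMap_apply]

omit [Algebra.FinitePresentation R A] in
theorem flat_localRingHom (p : Ideal R) [p.IsPrime] (hpq : p = q.comap (algebraMap R A)) :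
    (Localization.localRingHom p q (algebraMap R A) hpq).Flat := by
  haveI : Module.Flat R (Localization.AtPrime q) := Module.Flat.trans R A _
  letI : Algebra (Localization.AtPrime p) (Localization.AtPrime q) :=
    (Localization.localRingHom p q (algebraMap R A) hpq).toAlgebra
  haveI : IsScalarTower R (Localization.AtPrime p) (Localization.AtPrime q) := .of_algebraMap_eq fun x => by
    rw [RingHom.algebraMap_toAlgebra, Localization.localRingHom_to_map, ← IsScalarTower.algebraMap_apply]
  exact (Module.flat_iff_of_isLocalization (Localization.AtPrime p) p.primeCompl (Localization.AtPrime q)).mpr inferInstance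

include hψ in
/-- Tor amplitude over `R` of the local complex from the fibre. -/
theorem ta_of_fibre (p : Ideal R) [p.IsPrime] (hpq : p = q.comap (algebraMap R A))
    [DRing.HasLBaseChange (algebraMap A (Localization.AtPrime q))]
    [DRing.HasLTensor (Localization.AtPrime p) (ModuleCat.of (Localization.AtPrime p) p.ResidueField)]
    (K : Dual.D A) (hK : DRing.IsPseudoCoherent' A K) (a b : ℤ)
    (hfib : ∀ i : ℤ, i < a ∨ b < i → Subsingleton (Dual.HD (Localization.AtPrime p)
      ((DRing.LTensor (Localization.AtPrime p) (ModuleCat.of (Localization.AtPrime p) p.ResidueField)).obj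
        ((DRing.restrictD (Localization.localRingHom p q (algebraMap R A) hpq)).obj
          ((DRing.LBaseChange (algebraMap A (Localization.AtPrime q))).obj K))) i)) :
    DRing.HasTorAmplitudeIn R (a - d) b
      ((DRing.restrictD (algebraMap R (Localization.AtPrime q))).obj
        ((DRing.LBaseChange (algebraMap A (Localization.AtPrime q))).obj K)) := by
  let P := MvPolynomial (Fin d) R
  let q' := q.comap ψ.toRingHom
  haveI : q'.LiesOver p := ⟨by
    rw [hpq, Ideal.under_def, Ideal.comap_comap]
    congr 1
    exact ψ.comp_algebraMap.symm⟩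
  letI : Algebra (Localization.AtPrime p) (Localization.AtPrime q') := Localization.AtPrime.algebraOfLiesOver p q'
  have hθ := θ_algebraMap ψ q
  have hρ := localRingHom_eq ψ q p hpq
  obtain ⟨hfl, hflp⟩ := flat_atPrime (R := R) p q'
  haveI := hfl
  haveI := hflp
  obtain ⟨hreg, d', hd', hdim⟩ := regular_fibre d q' p
  haveI := hreg
  obtain ⟨E, c, hc, hF, ⟨e⟩⟩ := hK
  have hflat : DRing.TermwiseFlat E := fun i => haveI := (hF i).2; inferInstance
  let Eq' := ((ModuleCat.extendScalars.{u, u, u} (algebraMap A (Localization.AtPrime q))).mapHomologicalComplex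
    (ComplexShape.up ℤ)).obj E
  have hEqF : DRing.TermwiseFiniteFree Eq' := fun i => finiteFree_extend _ (hF i)
  have hEqb : DRing.VanishesAbove Eq' c := fun i hi =>
    (ModuleCat.extendScalars.{u, u, u} (algebraMap A (Localization.AtPrime q))).map_isZero (hc i hi)
  have hρflat := flat_localRingHom q p hpq (R := R)
  refine ta_mono (by push_cast; omega) le_rfl (ta_of_fibre_abstract (θ ψ q) _ hρ hρflat
    (algebraMap R (Localization.AtPrime q)) (RingHom.ext fun x => (hθ x).symm) d' hdim a b c Eq' hEqb hEqF
    ((lbaseObj _ E (isKFlat_of_flat hc hflat)).symm ≪≫ (DRing.LBaseChange _).mapIso e)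
    (pc_restrict ψ hψ q ⟨Eq', c, hEqb, hEqF,
      ⟨(lbaseObj _ E (isKFlat_of_flat hc hflat)).symm ≪≫ (DRing.LBaseChange _).mapIso e⟩⟩) hfib)

end Main

end Groth.Agent.H02CA.RelFib
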