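import Groth.Agent.H02CA.RelFib.Amp
import Groth.Agent.H4DR.TorAmp.Span
import Groth.Agent.H4DR.TorAmp.Descent
import Groth.Agent.H4DR.TorAmp.Nilpotent

/-!
# Perfection relative to the base from the bounds on the fibres
-/

set_option autoImplicit false
set_option linter.style.haveILetI false
set_option linter.unusedSectionVars false
set_option backward.isDefEq.respectTransparency false

universe u

open CategoryTheory CategoryTheory.Limits MonoidalCategory TensorProduct
open Groth.Agent.H4DR Groth.Agent.H4DR.TorAmp Groth.Agent.H4DR.TorAmp.Fibrewise Groth.Agent.H16Derived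

attribute [local instance] HasDerivedCategory.standard

namespace Groth.Agent.H02CA.RelFib

open Groth.Agent.H4DR.KFlatMod (bi)

/-- Homology is not changed by restriction of scalars. -/
theorem subsingleton_restrictD_iff {A B : Type u} [CommRing A] [CommRing B] (φ : A →+* B) {X : Dual.D B}
    {E : DRing.Cx B} (e : DRing.toD E ≅ X) (i : ℤ) :
    Subsingleton (Dual.HD A ((DRing.restrictD φ).obj X) i) ↔ Subsingleton (Dual.HD B X i) := by
  let G := ModuleCat.restrictScalars.{u} φ
  let e' : (DRing.restrictD φ).obj X ≅ DRing.toD ((G.mapHomologicalComplex (ComplexShape.up ℤ)).obj E) :=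
    (G.mapDerivedCategory.mapIso e).symm ≪≫ G.mapDerivedCategoryFactors.app E
  rw [(PCoh.hEquiv i e').subsingleton_congr,
    subsingleton_HD_toD_iff, exactAt_restrict_iff, ← subsingleton_HD_toD_iff,
    ← (PCoh.hEquiv i e).subsingleton_congr]

section Abstract

variable {R P : Type u} [CommRing R] [CommRing P] [Algebra R P] {F : DRing.Cx P}

/-- An element killing the homology makes the complex exact where it is invertible. -/
theorem exactAt_tens_of_kill (i : ℤ) (δ : P)
    (hkill : ∀ (M : Type u) [AddCommGroup M] [Module P M] (x : F.X i ⊗[P] M), (F.d i (i + 1)).hom.rTensor M x = 0 →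
      δ • x ∈ LinearMap.range ((F.d (i - 1) i).hom.rTensor M))
    (M : ModuleCat.{u} P) (hδ : Function.Bijective fun m : M => δ • m) : ((tens M).obj F).ExactAt i := by
  rw [HomologicalComplex.exactAt_iff' _ (i - 1) i (i + 1) (by simp) (by simp),
    ShortComplex.ShortExact.moduleCat_exact_iff_function_exact]
  intro x
  refine ⟨fun hx => ?_, fun ⟨y, hy⟩ => hy ▸ congr($(((tens M).obj F).d_comp_d (i - 1) i (i + 1)).hom y)⟩
  let f := (F.d (i - 1) i).hom
  let g := (F.d i (i + 1)).hom
  change g.rTensor M x = 0 at hx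
  let e : M ≃ₗ[P] M := LinearEquiv.ofBijective (LinearMap.lsmul P M δ) hδ
  let x' : F.X i ⊗[P] M := (e.symm.toLinearMap).lTensor (F.X i) x
  have h1 : g.rTensor M x' = 0 := by
    rw [← LinearMap.comp_apply, LinearMap.rTensor_comp_lTensor, ← LinearMap.lTensor_comp_rTensor,
      LinearMap.comp_apply, hx, map_zero]
  have h2 : δ • x' = x := by
    rw [← LinearMap.smul_apply, ← LinearMap.lTensor_smul,
      show δ • e.symm.toLinearMap = LinearMap.id from LinearMap.ext fun m => e.apply_symm_apply m,
      LinearMap.lTensor_id, LinearMap.id_apply]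
  obtain ⟨y, hy⟩ := hkill M x' h1
  exact ⟨y, hy.trans h2⟩

variable {c : ℤ} (hb : DRing.VanishesAbove F c) (hF : DRing.TermwiseFiniteFree F)

include hb hF in
/-- Tor amplitude on a standard open where the homology in degree `a - 1` is killed. -/
theorem ta_away_of_kill (a : ℤ) (hac : a ≤ c) (hex : ∀ i, i < a → F.ExactAt i) (δ : P)
    (hkill : ∀ (M : Type u) [AddCommGroup M] [Module P M] (x : F.X (a - 1) ⊗[P] M),
      (F.d (a - 1) (a - 1 + 1)).hom.rTensor M x = 0 →
      δ • x ∈ LinearMap.range ((F.d (a - 1 - 1) (a - 1)).hom.rTensor M))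
    (S : Type u) [CommRing S] [Algebra P S] [IsLocalization.Away δ S] :
    DRing.HasTorAmplitudeIn S a c (DRing.toD
      (((ModuleCat.extendScalars.{u, u, u} (algebraMap P S)).mapHomologicalComplex
        (ComplexShape.up ℤ)).obj F)) := by
  let φ := algebraMap P S
  haveI : Module.Flat P S := IsLocalization.flat S (Submonoid.powers δ)
  have hφ : φ.Flat := RingHom.flat_algebraMap_iff.2 ‹_›
  haveI : PreservesFiniteLimits (ModuleCat.extendScalars.{u, u, u} φ) :=
    ModuleCat.preservesFiniteLimits_extendScalars_of_flat hφ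
  let G := ((ModuleCat.extendScalars.{u, u, u} φ).mapHomologicalComplex (ComplexShape.up ℤ)).obj F
  have hGb : DRing.VanishesAbove G c := fun i hi => (ModuleCat.extendScalars.{u, u, u} φ).map_isZero (hb i hi)
  have hGfl : DRing.TermwiseFlat G := fun i => by
    haveI : Module.Free S (G.X i) := (finiteFree_extend φ (hF i)).2
    exact Module.Flat.of_free
  haveI : CochainComplex.IsGE G a := (CochainComplex.isGE_iff G a).2 fun i hi => (exactAt_map_iff _ F i).2
    ((ModuleCat.extendScalars.{u, u, u} φ).map_isZero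
      ((HomologicalComplex.exactAt_iff_isZero_homology _ _).1 (hex i hi)))
  have hN : ∀ N : ModuleCat.{u} S, ((tens N).obj G).ExactAt (a - 1) := fun N => by
    rw [← exactAt_restrict_iff φ]
    refine (exactAt_tens_of_kill (a - 1) δ hkill ((ModuleCat.restrictScalars.{u} φ).obj N) ?_).of_iso
      ((NatIso.mapHomologicalComplex (extTensIso φ N) (ComplexShape.up ℤ)).app F).symm
    obtain ⟨v, hv⟩ := IsLocalization.Away.algebraMap_isUnit (S := S) δ
    refine ⟨fun x y h => ?_, fun x => ⟨((v⁻¹ : Sˣ) : S) • (show N from x), ?_⟩⟩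
    · have h' : φ δ • (show N from x) = φ δ • (show N from y) := h
      have h'' := congrArg (fun z : N => ((v⁻¹ : Sˣ) : S) • z) h'
      simp only [← hv, smul_smul, Units.inv_mul, one_smul, φ] at h''
      exact h''
    · show φ δ • (((v⁻¹ : Sˣ) : S) • (show N from x)) = _
      rw [smul_smul, show φ δ = (v : S) from hv.symm, Units.mul_inv, one_smul]
  refine ⟨CochainComplex.truncGE G a, fun i hi => ?_, fun i => ?_,
    ⟨(@asIso _ _ _ _ (DerivedCategory.Q.map (CochainComplex.πTruncGE G a))
      (H25DTen.isIso_Q_map _ ((CochainComplex.quasiIso_πTruncGE_iff G a).2 inferInstance))).symm⟩⟩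
  · rcases hi with hi | hi
    · exact (CochainComplex.truncGE G a).isZero_of_isStrictlyGE a i hi
    · exact (hGb i hi).of_iso (CochainComplex.truncGEXIso G a i (by omega))
  · rcases lt_trichotomy i a with hi | rfl | hi
    · haveI := ModuleCat.subsingleton_of_isZero ((CochainComplex.truncGE G a).isZero_of_isStrictlyGE a i hi)
      infer_instance
    · haveI := flat_opcycles hGfl i hN
      exact Module.Flat.of_linearEquiv (CochainComplex.truncGEXIsoOpcycles G i).toLinearEquiv
    · haveI := hGfl i
      exact Module.Flat.of_linearEquiv (CochainComplex.truncGEXIso G a i hi).toLinearEquiv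

include hb hF in
/-- Tor amplitude over the base from bounds on the fibres of a flat algebra with regular fibres. -/
theorem ta_of_bounded_fibres [Module.Flat R P] (d : ℕ)
    (hgl : ∀ (p : PrimeSpectrum R) (M : Type u) [AddCommGroup M] [Module (p.asIdeal.ResidueField ⊗[R] P) M],
      HasProjectiveDimensionLT (ModuleCat.of (p.asIdeal.ResidueField ⊗[R] P) M) (d + 1))
    (a₀ : ℤ) (hex : ∀ i, i < a₀ → F.ExactAt i)
    (hfib : ∀ p : PrimeSpectrum R, ∃ a : ℤ, ∀ i : ℤ, i < a → ((tens (ModuleCat.of R p.asIdeal.ResidueField)).obj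
      (((ModuleCat.restrictScalars.{u} (algebraMap R P)).mapHomologicalComplex (ComplexShape.up ℤ)).obj F)).ExactAt i) :
    ∃ a b : ℤ, DRing.HasTorAmplitudeIn R a b
      ((DRing.restrictD (algebraMap R P)).obj (DRing.toD F)) := by
  have hflat : DRing.TermwiseFlat F := fun i => haveI := (hF i).2; inferInstance
  let Good : P → Prop := fun δ => ∃ a : ℤ, DRing.HasTorAmplitudeIn (Localization.Away δ) a c (DRing.toD
      (((ModuleCat.extendScalars.{u, u, u} (algebraMap P (Localization.Away δ))).mapHomologicalComplex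
        (ComplexShape.up ℤ)).obj F))
  have hspan : Ideal.span {δ : P | Good δ} = ⊤ := by
    by_contra hne
    obtain ⟨m, hm, hle⟩ := Ideal.exists_le_maximal _ hne
    let p : PrimeSpectrum R := ⟨m.comap (algebraMap R P), inferInstance⟩
    obtain ⟨a₁, ha₁⟩ := hfib p
    let a := min (min a₀ (a₁ - d)) c
    letI := Ideal.Quotient.field m
    let C := p.asIdeal.ResidueField ⊗[R] P
    let incl : P →+* C := (Algebra.TensorProduct.includeRight (R := R) (A := p.asIdeal.ResidueField) (B := P)).toRingHom
    let g : p.asIdeal.ResidueField →+* P ⧸ m :=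
      Ideal.ResidueField.lift p.asIdeal ((Ideal.Quotient.mk m).comp (algebraMap R P))
        (fun x hx => RingHom.mem_ker.2 (Ideal.Quotient.eq_zero_iff_mem.2 hx))
        (fun x hx => isUnit_iff_ne_zero.2 fun h0 => hx ((Ideal.Quotient.eq_zero_iff_mem (I := m)).1 h0))
    let gA : p.asIdeal.ResidueField →ₐ[R] P ⧸ m :=
      { g with commutes' := fun r => Ideal.ResidueField.lift_algebraMap _ _ _ _ r }
    let qA : P →ₐ[R] P ⧸ m := { Ideal.Quotient.mk m with commutes' := fun _ => rfl }
    let χ : C →+* P ⧸ m := (Algebra.TensorProduct.lift gA qA fun _ _ => Commute.all _ _).toRingHom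
    have hχ : χ.comp incl = Ideal.Quotient.mk m := RingHom.ext fun x => by
      show Algebra.TensorProduct.lift gA qA (fun _ _ => Commute.all _ _) ((1 : p.asIdeal.ResidueField) ⊗ₜ[R] x) = _
      rw [Algebra.TensorProduct.lift_tmul, map_one, one_mul]
      rfl
    haveI := hasLBaseChange (Ideal.Quotient.mk m)
    have hres := subsingleton_fibre d p.asIdeal.ResidueField (hgl p) (Ideal.Quotient.mk m) χ hχ hb hflat
      (Iso.refl (DRing.toD F)) a₁ c (fun j hj => by
        rcases hj with hj | hj
        · exact ha₁ j hj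
        · exact (HomologicalComplex.exactAt_iff _ _).2 (ShortComplex.exact_of_isZero_X₂ _
            ((tensorRight _).map_isZero ((ModuleCat.restrictScalars.{u} (algebraMap R P)).map_isZero (hb j hj)))))
      (a - 1) (Or.inl (by omega))
    have he : (((ModuleCat.extendScalars.{u, u, u} (Ideal.Quotient.mk m)).mapHomologicalComplex
        (ComplexShape.up ℤ)).obj F).ExactAt (a - 1) :=
      (subsingleton_HD_toD_iff _ _).1
        ((PCoh.hEquiv (a - 1) (lbaseObj (Ideal.Quotient.mk m) F (isKFlat_of_flat hb hflat))).subsingleton_congr.1 hres)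
    rw [HomologicalComplex.exactAt_iff' _ (a - 1 - 1) (a - 1) (a - 1 + 1) (by simp) (by simp),
      ShortComplex.ShortExact.moduleCat_exact_iff_function_exact] at he
    letI : Algebra P (P ⧸ m) := (Ideal.Quotient.mk m).toAlgebra
    haveI := (hF (a - 1)).1
    haveI := (hF (a - 1)).2
    haveI := (hF (a - 1 + 1)).2
    obtain ⟨δ, hδ, hkill⟩ := exists_smul_mem_range (k := P ⧸ m) Ideal.Quotient.mk_surjective
      (F.d (a - 1 - 1) (a - 1)).hom (F.d (a - 1) (a - 1 + 1)).hom
      (ModuleCat.hom_ext_iff.1 (F.d_comp_d (a - 1 - 1) (a - 1) (a - 1 + 1))) he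
    exact hδ (Ideal.Quotient.eq_zero_iff_mem.2 (hle (Ideal.subset_span
      ⟨a, ta_away_of_kill hb hF a (by omega) (fun i hi => hex i (by omega)) δ hkill (Localization.Away δ)⟩)))
  obtain ⟨s, hs, hs'⟩ := (Ideal.span_eq_top_iff_finite _).1 hspan
  let f : Fin s.card → P := fun k => (s.equivFin.symm k : P)
  have hrange : Set.range f = (s : Set P) := by
    rw [show f = Subtype.val ∘ s.equivFin.symm from rfl, Set.range_comp, s.equivFin.symm.surjective.range_eq,
      Set.image_univ, Subtype.range_coe]
  choose af haf using fun k => hs (s.equivFin.symm k).2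
  obtain ⟨a, ha⟩ := (Set.finite_range af).bddBelow
  have hP : DRing.HasTorAmplitudeIn P a c (DRing.toD F) :=
    ta_descent (fun k => Localization.Away (f k)) (fun k => algebraMap P (Localization.Away (f k)))
      (fun k => RingHom.flat_algebraMap_iff.2 (IsLocalization.flat _ (Submonoid.powers (f k))))
      (fun X hX => isZero_of_span f (hrange ▸ hs') X hX) F a c
      fun k => ta_mono (ha ⟨k, rfl⟩) le_rfl (haf k)
  have hB : DRing.HasTorAmplitudeIn R (-((0 : ℕ) : ℤ)) 0 (Dual.inD R P) := by
    simpa using TorAmp.ta_of_flat (ModuleCat.of R P)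
  exact ⟨_, _, ta_restrict hB hP⟩

end Abstract

section Main

variable (R A : Type u) [CommRing R] [CommRing A] [Algebra R A]

/-- Relative perfection is a bound below on all fibres. -/
theorem isRelPerfect_iff [Module.Flat R A] [Algebra.FinitePresentation R A]
    [∀ p : PrimeSpectrum R, DRing.HasLTensor R (ModuleCat.of R p.asIdeal.ResidueField)]
    (K : Dual.D A) (hK : DRing.IsPseudoCoherent' A K) :
    Dual2.IsRelPerfect R A K ↔
      (∃ a : ℤ, ∀ i : ℤ, i < a → Subsingleton (Dual.HD A K i)) ∧
        ∀ p : PrimeSpectrum R, ∃ a : ℤ, ∀ i : ℤ, i < a →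
          Subsingleton (Dual.HD R ((DRing.LTensor R (ModuleCat.of R p.asIdeal.ResidueField)).obj
            ((DRing.restrictD (algebraMap R A)).obj K)) i) := by
  obtain ⟨E, c₁, hc₁, hE, ⟨eE⟩⟩ := hK
  let GA := ModuleCat.restrictScalars.{u} (algebraMap R A)
  constructor
  · rintro ⟨-, a, b, hta⟩
    refine ⟨⟨a, fun i hi => (subsingleton_restrictD_iff _ eE i).1 (bound_of_ta hta i (Or.inl hi))⟩,
      fun p => ⟨a, fun i hi => ?_⟩⟩
    let Q := (GA.mapHomologicalComplex (ComplexShape.up ℤ)).obj E
    have hEfl : DRing.TermwiseFlat E := fun i => haveI := (hE i).2; inferInstance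
    have hQ : KFlat.IsKFlat (bi R) Q :=
      isKFlat_of_flat (c := c₁) (fun j hj => GA.map_isZero (hc₁ j hj)) (flat_restrict (A := R) hEfl)
    let eQ : DRing.toD Q ≅ (DRing.restrictD (algebraMap R A)).obj K :=
      (GA.mapDerivedCategoryFactors.app E).symm ≪≫ GA.mapDerivedCategory.mapIso eE
    exact (PCoh.hEquiv i ((DRing.LTensor R _).mapIso eQ.symm ≪≫ ltensorObj _ Q hQ)).subsingleton_congr.2
      ((subsingleton_HD_toD_iff _ i).2 (exactAt_tens_of_ta hQ (ta_of_iso eQ.symm hta) _ (Or.inl hi)))
  rintro ⟨⟨a₀, ha₀⟩, hfib⟩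
  refine ⟨⟨E, c₁, hc₁, hE, ⟨eE⟩⟩, ?_⟩
  obtain ⟨d, ψ, hψ, hker⟩ := Algebra.FinitePresentation.out (R := R) (A := A)
  let P := MvPolynomial (Fin d) R
  let φ : P →+* A := ψ.toRingHom
  letI : Algebra P A := φ.toAlgebra
  haveI : IsScalarTower R P A := .of_algebraMap_eq fun x => (ψ.commutes x).symm
  haveI : Module.FinitePresentation P A :=
    Module.finitePresentation_of_surjective (Algebra.linearMap P A) hψ hker
  have hA : H8Props.PseudoCoh.FPInf P A := fun k => H26Dual2.fpk_of_relFlat (R := R) k A
  have hK' : DRing.IsPseudoCoherent' P ((DRing.restrictD φ).obj K) := PCoh.pc'_of_forall fun m =>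
    PCoh.pc_map (ModuleCat.restrictScalars.{u} φ) (fun n j => by
      have h : DRing.IsPseudoCoherentModule' P (Fin n → A) :=
        H8Props.PseudoCoh.isPseudoCoherentModule'_of_fpInf fun k => H8Props.PseudoCoh.fpk_pi_algebra (hA k) n
      exact PCoh.pc_of_iso ((DerivedCategory.singleFunctor (ModuleCat.{u} P) 0).mapIso
        (@LinearEquiv.toModuleIso P _ (ModuleCat.of P (Fin n → A))
          ((ModuleCat.restrictScalars.{u} φ).obj (ModuleCat.of A (Fin n → A))) inferInstance inferInstance
          (ModuleCat.of P (Fin n → A)).isModule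
          ((ModuleCat.restrictScalars.{u} φ).obj (ModuleCat.of A (Fin n → A))).isModule
          { toFun := fun x => x
            invFun := fun x => x
            map_add' := fun _ _ => rfl
            map_smul' := fun r x => funext fun i => Algebra.smul_def r _
            left_inv := fun _ => rfl
            right_inv := fun _ => rfl })) (PCoh.pc_of_pc' h j))
      (PCoh.pc_of_pc' ⟨E, c₁, hc₁, hE, ⟨eE⟩⟩ m)
  obtain ⟨F, c, hc, hF, ⟨eF⟩⟩ := hK'
  let GP := ModuleCat.restrictScalars.{u} (algebraMap R P)
  let Gφ := ModuleCat.restrictScalars.{u} φ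
  have hcomp : algebraMap R A = φ.comp (algebraMap R P) := IsScalarTower.algebraMap_eq R P A
  let eR : (DRing.restrictD (algebraMap R P)).obj (DRing.toD F) ≅ (DRing.restrictD (algebraMap R A)).obj K :=
    GP.mapDerivedCategory.mapIso (eF ≪≫ (Gφ.mapDerivedCategory.mapIso eE).symm ≪≫
        Gφ.mapDerivedCategoryFactors.app E) ≪≫ GP.mapDerivedCategoryFactors.app _ ≪≫
      (DerivedCategory.Q.mapIso (TorTest.resCompCx (algebraMap R P) φ _ hcomp E)).symm ≪≫
      (GA.mapDerivedCategoryFactors.app E).symm ≪≫ GA.mapDerivedCategory.mapIso eE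
  have hflat : DRing.TermwiseFlat F := fun i => haveI := (hF i).2; inferInstance
  let Q := (GP.mapHomologicalComplex (ComplexShape.up ℤ)).obj F
  have hQ : KFlat.IsKFlat (bi R) Q :=
    isKFlat_of_flat (c := c) (fun j hj => GP.map_isZero (hc j hj)) (flat_restrict (A := R) hflat)
  obtain ⟨a, b, hta⟩ := ta_of_bounded_fibres (R := R) hc hF d (fun p M _ _ => by
      let e : p.asIdeal.ResidueField ⊗[R] P ≃+* MvPolynomial (Fin d) p.asIdeal.ResidueField :=
        (MvPolynomial.algebraTensorAlgEquiv (σ := Fin d) R p.asIdeal.ResidueField).toRingEquiv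
      haveI : IsNoetherianRing (p.asIdeal.ResidueField ⊗[R] P) := isNoetherianRing_of_ringEquiv (R := MvPolynomial (Fin d) p.asIdeal.ResidueField) e.symm
      haveI : IsRegularRing (p.asIdeal.ResidueField ⊗[R] P) :=
        IsRegularRing.of_ringEquiv (R := MvPolynomial (Fin d) p.asIdeal.ResidueField) e.symm
      refine Hom.hasProjectiveDimensionLT_of_regular (fun r => isRegularRing_iff.mp inferInstance r.asIdeal) ?_ _
      rw [ringKrullDim_eq_of_ringEquiv e, MvPolynomial.ringKrullDim_of_isNoetherianRing,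
        ringKrullDim_eq_zero_of_field, Nat.card_eq_fintype_card, Fintype.card_fin, zero_add])
    a₀ (fun i hi => (subsingleton_HD_toD_iff _ i).1 ((PCoh.hEquiv i eF).subsingleton_congr.2
      ((subsingleton_restrictD_iff φ eE i).2 (ha₀ i hi))))
    (fun p => by
      obtain ⟨a, ha⟩ := hfib p
      exact ⟨a, fun i hi => (subsingleton_HD_toD_iff _ i).1 ((PCoh.hEquiv i ((ltensorObj _ Q hQ).symm ≪≫
        (DRing.LTensor R _).mapIso ((GP.mapDerivedCategoryFactors.app F).symm ≪≫ eR))).subsingleton_congr.2
          (ha i hi))⟩)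
  exact ⟨a, b, ta_of_iso eR hta⟩

end Main

end Groth.Agent.H02CA.RelFib
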